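/-
Collection in polycyclic presentations of 2-groups with central tails of order two.  A state is a number whose
`N` lowest bits code a normal word and whose higher bits code a product of tails.
-/
import Cfsg.Agent.H63.Check

set_option autoImplicit false

namespace Cfsg.Agent.H80M

open H14 (force force_eq allN allN_iff allL allL_iff beq_iff ble_iff)
open H63 (nf nf_zero nf_succ nf_zero' nf_add nf_single map_nf nf_induction loop loopF loop_spec lg lg_eq
  log2_shift shl_one)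

/-- binary logarithm -/
noncomputable def lg2 (x : ℕ) : ℕ :=
  Bool.rec (lg x) (Nat.add (lg (Nat.shiftRight x (nat_lit 36))) (nat_lit 36)) (Nat.ble (nat_lit 68719476736) x)

theorem lg2_eq : lg2 = Nat.log2 := by
  funext x
  unfold lg2
  rw [lg_eq]
  cases h : Nat.ble (nat_lit 68719476736) x with
  | false => rfl
  | true => exact log2_shift (k := 36) (ble_iff.1 h)

/-- the letter loop with fuel `f` -/
noncomputable def lpF (g : ℕ → ℕ → ℕ) (f : ℕ) : ℕ → ℕ → ℕ :=
  Nat.rec (motive := fun _ => ℕ → ℕ → ℕ) (fun _ R => R)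
    (fun _ ih W R => Nat.rec (motive := fun _ => ℕ) R (fun W1 _ =>
      force (Nat.div (lg2 (Nat.succ W1)) (nat_lit 1)) fun j =>
      force (g R j) fun R' =>
        ih (Nat.sub (Nat.succ W1) (Nat.shiftLeft (nat_lit 1) (Nat.mul (nat_lit 1) j))) R') W) f

/-- run `g` on the letters of the word `W`, highest letter first -/
noncomputable def lp (g : ℕ → ℕ → ℕ) (W R : ℕ) : ℕ := force W fun W => force R fun R => lpF g W W R

theorem lp_spec {Γ : Type*} [Group Γ] {g : ℕ → ℕ → ℕ} (v : ℕ → Γ) (s : ℕ → Γ) {d n : ℕ} (hd : d ≤ n)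
    (hg : ∀ R j, j < d → v (g R j) = v R * s j) {W : ℕ} (hW : W < 2 ^ d) (R : ℕ) :
    v (lp g W R) = v R * nf 2 n s W := by
  have e : lp g W R = loop 1 g W R := by
    unfold lp loop lpF loopF
    rw [force_eq, force_eq, lg2_eq]
  rw [e]
  exact loop_spec one_pos (fun R x => v R = x) s (MonoidHom.id Γ) hd
    (fun R x j hj h => h ▸ hg R j hj) (by rwa [pow_one]) rfl

theorem nf_bits {Γ : Type*} [Group Γ] (n : ℕ) {s t : ℕ → Γ} (W : ℕ)
    (h : ∀ l < n, W.testBit l = true → s l = t l) : nf 2 n s W = nf 2 n t W := by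
  induction n generalizing s t W with
  | zero => rfl
  | succ n ih =>
    rw [nf_succ, nf_succ, ih (W / 2) fun l hl hb => h (l + 1) (by omega) (by rwa [Nat.testBit_succ])]
    rcases Nat.mod_two_eq_zero_or_one W with e | e
    · rw [e, pow_zero, pow_zero]
    · rw [h 0 (by omega) (by simp [Nat.testBit_zero, e])]

theorem nf_lt {Γ : Type*} [Group Γ] (n : ℕ) {s t : ℕ → Γ} {W i : ℕ} (hW : W < 2 ^ i)
    (h : ∀ l < i, s l = t l) : nf 2 n s W = nf 2 n t W :=
  nf_bits n W fun l _ hb => h l (by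
    by_contra hc
    rw [Nat.testBit_lt_two_pow (hW.trans_le (Nat.pow_le_pow_right two_pos (by omega)))] at hb
    exact absurd hb (by simp))

theorem nf_two_pow {Γ : Type*} [Group Γ] {n i : ℕ} (s : ℕ → Γ) (hi : i < n) : nf 2 n s (2 ^ i) = s i := by
  have := nf_single (M := 2) i n s 1 one_lt_two hi
  rwa [one_mul, pow_one] at this

theorem nf_mem_bits {Γ : Type*} [Group Γ] (K : Subgroup Γ) (n : ℕ) {s : ℕ → Γ} (W : ℕ)
    (h : ∀ l < n, W.testBit l = true → s l ∈ K) : nf 2 n s W ∈ K := by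
  classical
  rw [nf_bits n (t := fun l => if s l ∈ K then s l else 1) W fun l hl hb => (if_pos (h l hl hb)).symm]
  exact H63.nf_mem K _ _ _ (fun j => by split_ifs with h; exacts [h, K.one_mem]) _

theorem nf_xor {A : Type*} [CommGroup A] (n : ℕ) {z : ℕ → A} (hz : ∀ i, z i * z i = 1) (a b : ℕ) :
    nf 2 n z (a ^^^ b) = nf 2 n z a * nf 2 n z b := by
  induction n generalizing z a b with
  | zero => exact (mul_one _).symm
  | succ n ih =>
    rw [nf_succ, nf_succ, nf_succ, Nat.xor_div_two, ih fun i => hz _, Nat.xor_mod_two_eq, mul_mul_mul_comm,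
      ← pow_add, Nat.add_mod]
    congr 1
    rcases Nat.mod_two_eq_zero_or_one a with e | e <;> rcases Nat.mod_two_eq_zero_or_one b with f | f <;>
      simp [e, f, pow_two, hz]

/-- add the tail `t` -/
def addT (N R t : ℕ) : ℕ := Nat.xor R (Nat.shiftLeft t N)

/-- multiply the state `R` by the generator `i` -/
noncomputable def mulG (N : ℕ) (tw tt : ℕ → ℕ → ℕ) (f : ℕ) : ℕ → ℕ → ℕ :=
  Nat.rec (motive := fun _ => ℕ → ℕ → ℕ) (fun R _ => R) (fun _ ih R i =>
    force (Nat.shiftLeft (nat_lit 1) i) fun P => force (Nat.mod R P) fun U =>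
    lp (fun R j => lp ih (tw i j) (addT N R (tt i j))) U
      (Bool.rec (lp ih (tw i i) (addT N (Nat.sub (Nat.sub R U) P) (tt i i))) (Nat.add (Nat.sub R U) P)
        (Nat.beq (Nat.mod (Nat.shiftRight R i) (nat_lit 2)) (nat_lit 0)))) f

/-- multiply the state `R` by the word `w` and the tail `t` -/
noncomputable def mulS (N : ℕ) (tw tt : ℕ → ℕ → ℕ) (w t R : ℕ) : ℕ := lp (mulG N tw tt N) w (addT N R t)

/-- multiply the state `R` by the image of the word `W` -/
noncomputable def img (N : ℕ) (tw tt : ℕ → ℕ → ℕ) (fw ft : ℕ → ℕ) (W R : ℕ) : ℕ :=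
  lp (fun R l => mulS N tw tt (fw l) (ft l) R) W R

/-- the left side of a polycyclic relation -/
def lhs {Γ : Type*} [Group Γ] (s : ℕ → Γ) (i j : ℕ) : Γ := if j = i then s i * s i else (s i)⁻¹ * s j * s i

theorem map_lhs {Γ Δ : Type*} [Group Γ] [Group Δ] (f : Γ →* Δ) (s : ℕ → Γ) (i j : ℕ) :
    f (lhs s i j) = lhs (fun l => f (s l)) i j := by
  unfold lhs; split_ifs <;> simp

/-- does the image of the relation `(i, j)` with right side `W`, `t` hold? -/
noncomputable def homT (N : ℕ) (tw tt : ℕ → ℕ → ℕ) (fw ft : ℕ → ℕ) (i j W t : ℕ) : ℕ :=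
  Nat.xor (mulS N tw tt (fw i) (ft i) (addT N (fw j) (ft j)))
    (img N tw tt fw ft W (addT N (Bool.rec (addT N (fw i) (ft i)) (nat_lit 0) (Nat.beq j i)) t))

/-- is the square of the conjugation by `g` the conjugation by the square of `g`? -/
noncomputable def sqT (N : ℕ) (tw tt : ℕ → ℕ → ℕ) (g j : ℕ) : ℕ :=
  Nat.xor (img N tw tt (tw g) (tt g) (tw g j) (addT N (addT N (tw g g) (tt g g)) (tt g j)))
    (mulS N tw tt (tw g g) (tt g g) (Nat.shiftLeft (nat_lit 1) j))

/-- does `g` fix its square? -/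
noncomputable def fixT (N : ℕ) (tw tt : ℕ → ℕ → ℕ) (g : ℕ) : ℕ :=
  Nat.xor (img N tw tt (tw g) (tt g) (tw g g) (nat_lit 0)) (tw g g)

/-- the relations for the first `d` generators hold with tails -/
structure Cx (Γ : Type*) [Group Γ] (N d : ℕ) (tw tt : ℕ → ℕ → ℕ) where
  s : ℕ → Γ
  ev : ℕ → Γ
  cen : ∀ V x, ev V * x = x * ev V
  xor : ∀ V W, ev (V ^^^ W) = ev V * ev W
  hd : d ≤ N
  lt : ∀ i < d, ∀ j ≤ i, tw i j < 2 ^ i
  rel : ∀ i < d, ∀ j ≤ i, lhs s i j = nf 2 N s (tw i j) * ev (tt i j)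

namespace Cx
variable {Γ : Type*} [Group Γ] {N d : ℕ} {tw tt : ℕ → ℕ → ℕ} (C : Cx Γ N d tw tt)

/-- the value of a state -/
noncomputable def val (R : ℕ) : Γ := nf 2 N C.s (R % 2 ^ N) * C.ev (R / 2 ^ N)

theorem ev_zero : C.ev 0 = 1 := by
  have := C.xor 0 0
  rw [Nat.xor_self] at this
  exact mul_left_cancel (a := C.ev 0) (by rw [← this, mul_one])

theorem val_word {W : ℕ} (h : W < 2 ^ N) : C.val W = nf 2 N C.s W := by
  rw [val, Nat.mod_eq_of_lt h, Nat.div_eq_of_lt h, ev_zero, mul_one]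

theorem val_addT (R t : ℕ) : C.val (addT N R t) = C.val R * C.ev t := by
  have e : addT N R t = R ^^^ t * 2 ^ N := by rw [← Nat.shiftLeft_eq]; rfl
  rw [e, val, val, Nat.xor_mod_two_pow, Nat.xor_div_two_pow, Nat.mul_mod_left, Nat.xor_zero,
    Nat.mul_div_cancel _ (by positivity), C.xor, mul_assoc]

theorem val_add {i X U : ℕ} (hi : i ≤ N) (hX : 2 ^ i ∣ X) (hU : U < 2 ^ i) :
    C.val (X + U) = C.val X * nf 2 N C.s U := by
  obtain ⟨Y, rfl⟩ := hX
  obtain ⟨k, rfl⟩ := Nat.exists_eq_add_of_le hi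
  have h1 : (2 ^ i * Y + U) / 2 ^ i = Y := by
    rw [Nat.mul_add_div (by positivity), Nat.div_eq_of_lt hU, add_zero]
  have h2 : 2 ^ i * Y / 2 ^ i = Y := Nat.mul_div_cancel_left _ (by positivity)
  rw [val, val, pow_add, Nat.mod_mul, Nat.mod_mul, ← Nat.div_div_eq_div_mul, ← Nat.div_div_eq_div_mul, h1, h2,
    Nat.mul_add_mod, Nat.mod_eq_of_lt hU, Nat.mul_mod_right, zero_add, add_comm U, mul_comm (2 ^ i),
    nf_add two_pos _ _ _ _ _ hU, mul_assoc, mul_assoc, C.cen]

theorem mulG_spec (f : ℕ) (R i : ℕ) (hf : i < f) (hi : i < d) :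
    C.val (mulG N tw tt f R i) = C.val R * C.s i := by
  induction f generalizing R i with
  | zero => omega
  | succ f ih =>
    have hN : i < N := hi.trans_le C.hd
    have e0 : mulG N tw tt (f + 1) R i = force (Nat.shiftLeft (nat_lit 1) i) fun P => force (Nat.mod R P) fun U =>
      lp (fun R j => lp (mulG N tw tt f) (tw i j) (addT N R (tt i j))) U
      (Bool.rec (lp (mulG N tw tt f) (tw i i) (addT N (Nat.sub (Nat.sub R U) P) (tt i i)))
        (Nat.add (Nat.sub R U) P)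
        (Nat.beq (Nat.mod (Nat.shiftRight R i) (nat_lit 2)) (nat_lit 0))) := rfl
    have hw : ∀ R, ∀ j ≤ i, C.val (lp (mulG N tw tt f) (tw i j) (addT N R (tt i j))) = C.val R * lhs C.s i j :=
      fun R j hj => by
        rw [lp_spec C.val C.s hN.le (fun R j hj => ih R j (by omega) (by omega)) (C.lt i hi j hj), val_addT,
          C.rel i hi j hj, mul_assoc, C.cen]
    have hU : Nat.mod R (2 ^ i) < 2 ^ i := Nat.mod_lt _ (by positivity)
    have e1 : R = 2 ^ i * (R / 2 ^ i) + Nat.mod R (2 ^ i) := (Nat.div_add_mod R _).symm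
    have e2 : Nat.shiftRight R i = R / 2 ^ i := Nat.shiftRight_eq_div_pow _ _
    rw [e0, force_eq, force_eq, shl_one, e2, lp_spec C.val (fun j => (C.s i)⁻¹ * C.s j * C.s i) hN.le
      (fun R j hj => by rw [hw R j hj.le, lhs, if_neg hj.ne]) hU]
    generalize Nat.mod R (2 ^ i) = U at *
    generalize R / 2 ^ i = Y at *
    subst e1
    have e3 := map_nf (MulAut.conj (C.s i)⁻¹).toMonoidHom 2 N C.s U
    simp only [MulEquiv.toMonoidHom_eq_coe, MonoidHom.coe_coe, MulAut.conj_apply, inv_inv] at e3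
    have e4 : Nat.sub (2 ^ i * Y + U) U = 2 ^ i * Y := Nat.add_sub_cancel _ _
    have e5 : ∀ Z, C.val (2 ^ i * (2 * Z) + 2 ^ i) = C.val (2 ^ i * (2 * Z)) * C.s i := fun Z => by
      rw [C.val_add (i := i + 1) hN ⟨Z, by ring⟩ (Nat.pow_lt_pow_right one_lt_two (by omega)), nf_two_pow _ hN]
    rw [← e3, C.val_add hN.le (Dvd.intro _ rfl) hU, e4]
    suffices h : C.val _ = C.val (2 ^ i * Y) * C.s i by rw [h]; simp only [mul_assoc, mul_inv_cancel_left]
    obtain ⟨Z, rfl | rfl⟩ := Nat.even_or_odd' Y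
    · rw [beq_iff.2 (show Nat.mod (2 * Z) (nat_lit 2) = nat_lit 0 from Nat.mul_mod_right 2 Z)]
      exact e5 Z
    · rw [show Nat.beq (Nat.mod (2 * Z + 1) (nat_lit 2)) (nat_lit 0) = false by
        rw [show Nat.mod (2 * Z + 1) (nat_lit 2) = 1 from Nat.mul_add_mod 2 Z 1]; rfl]
      rw [mul_add, mul_one, e5, show Nat.sub (2 ^ i * (2 * Z) + 2 ^ i) (2 ^ i) = _ from Nat.add_sub_cancel _ _,
        mul_assoc]
      exact (hw _ i le_rfl).trans (by rw [lhs, if_pos rfl])

theorem mulS_spec {w : ℕ} (hw : w < 2 ^ d) (t R : ℕ) :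
    C.val (mulS N tw tt w t R) = C.val R * (nf 2 N C.s w * C.ev t) := by
  rw [mulS, lp_spec C.val C.s C.hd (fun R j hj => C.mulG_spec N R j (hj.trans_le C.hd) hj) hw, val_addT,
    mul_assoc, C.cen]

/-- the images of the letters -/
noncomputable def im (fw ft : ℕ → ℕ) (l : ℕ) : Γ := nf 2 N C.s (fw l) * C.ev (ft l)

theorem img_spec {fw : ℕ → ℕ} (ft : ℕ → ℕ) {e n W : ℕ} (he : e ≤ n) (h : ∀ l < e, fw l < 2 ^ d)
    (hW : W < 2 ^ e) (R : ℕ) : C.val (img N tw tt fw ft W R) = C.val R * nf 2 n (C.im fw ft) W :=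
  lp_spec C.val (C.im fw ft) he (fun R j hj => C.mulS_spec (h j hj) (ft j) R) hW R

theorem val_xor {a b : ℕ} (h : Nat.xor a b % 2 ^ N = 0) : C.val a = C.val b * C.ev (Nat.xor a b / 2 ^ N) := by
  have e : a = addT N b (Nat.xor a b / 2 ^ N) := by
    change a = b ^^^ (Nat.xor a b / 2 ^ N) <<< N
    rw [Nat.shiftLeft_eq, Nat.div_mul_cancel (Nat.dvd_of_mod_eq_zero h)]
    change a = b ^^^ (a ^^^ b)
    rw [Nat.xor_comm a, Nat.xor_xor_cancel_left]
  rw [← val_addT, ← e]

theorem val_im {fw ft : ℕ → ℕ} {l : ℕ} (h : fw l < 2 ^ d) : C.val (addT N (fw l) (ft l)) = C.im fw ft l := by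
  rw [val_addT, val_word _ (h.trans_le (Nat.pow_le_pow_right two_pos C.hd))]; rfl

theorem homT_spec {fw : ℕ → ℕ} (ft : ℕ → ℕ) {e n W i j : ℕ} (t : ℕ) (he : e ≤ n) (h : ∀ l < e, fw l < 2 ^ d)
    (hW : W < 2 ^ e) (hi : fw i < 2 ^ d) (hj : fw j < 2 ^ d) (h0 : homT N tw tt fw ft i j W t % 2 ^ N = 0) :
    lhs (C.im fw ft) i j =
      nf 2 n (C.im fw ft) W * C.ev t * C.ev (homT N tw tt fw ft i j W t / 2 ^ N) := by
  have := C.val_xor h0
  rw [C.mulS_spec hi, C.img_spec ft he h hW, C.val_im hj, val_addT, mul_assoc _ (C.ev t), C.cen t] at this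
  change C.im fw ft j * C.im fw ft i = _ * C.ev (homT N tw tt fw ft i j W t / 2 ^ N) at this
  unfold lhs
  split_ifs with e
  · subst e
    rw [beq_iff.2 rfl] at this
    rwa [show C.val (Bool.rec (addT N (fw j) (ft j)) (nat_lit 0) true) = 1 from
      (C.val_word (by positivity)).trans (nf_zero' _ _ _), one_mul] at this
  · rw [show Nat.beq j i = false from Bool.eq_false_iff.2 fun h => e (beq_iff.1 h)] at this
    rw [mul_assoc, this, show C.val (Bool.rec _ (nat_lit 0) false) = _ from C.val_im hi]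
    simp only [mul_assoc, inv_mul_cancel_left]

theorem sqT_spec {g j : ℕ} (hg : g ≤ d) (h : ∀ l ≤ g, tw g l < 2 ^ g) (hj : j < g)
    (h0 : sqT N tw tt g j % 2 ^ N = 0) :
    C.im (tw g) (tt g) g * (nf 2 N (C.im (tw g) (tt g)) (tw g j) * C.ev (tt g j)) =
      C.s j * C.im (tw g) (tt g) g * C.ev (sqT N tw tt g j / 2 ^ N) := by
  have h' : ∀ l ≤ g, tw g l < 2 ^ d := fun l hl => (h l hl).trans_le (Nat.pow_le_pow_right two_pos hg)
  have hN : j < N := (hj.trans_le hg).trans_le C.hd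
  have := C.val_xor h0
  change _ = _ * C.ev (sqT N tw tt g j / 2 ^ N) at this
  rwa [C.mulS_spec (h' g le_rfl), C.img_spec _ (hg.trans C.hd) (fun l hl => h' l hl.le) (h j hj.le), val_addT,
    C.val_im (h' g le_rfl), shl_one, val_word _ (Nat.pow_lt_pow_right one_lt_two hN), nf_two_pow _ hN,
    mul_assoc _ (C.ev _), C.cen] at this

theorem fixT_spec {g : ℕ} (hg : g ≤ d) (h : ∀ l ≤ g, tw g l < 2 ^ g) (h0 : fixT N tw tt g % 2 ^ N = 0) :
    nf 2 N (C.im (tw g) (tt g)) (tw g g) = nf 2 N C.s (tw g g) * C.ev (fixT N tw tt g / 2 ^ N) := by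
  have h' : ∀ l ≤ g, tw g l < 2 ^ d := fun l hl => (h l hl).trans_le (Nat.pow_le_pow_right two_pos hg)
  have := C.val_xor h0
  rwa [C.img_spec _ (hg.trans C.hd) (fun l hl => h' l hl.le) (h g le_rfl),
    show C.val (nat_lit 0) = 1 from (C.val_word (by positivity)).trans (nf_zero' _ _ _), one_mul,
    val_word _ ((h' g le_rfl).trans_le (Nat.pow_le_pow_right two_pos C.hd))] at this

end Cx

end Cfsg.Agent.H80M
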