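/-
Polycyclic sequences with factors of order at most two; groups defined by consistent presentations.
-/
import Cfsg.Agent.H80M.Col
import Mathlib.Algebra.Group.MinimalAxioms

set_option autoImplicit false

namespace Cfsg.Agent.H80M

open H14 (force force_eq allN allN_iff allL allL_iff beq_iff ble_iff)
open H63 (nf map_nf nf_induction pcS mem_pcS)

section pc
variable {Γ : Type*} [Group Γ] {t : ℕ → Γ} {W : Subgroup Γ} {n : ℕ}

/-- the first `n` elements form a polycyclic sequence modulo `W` -/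
def PC (t : ℕ → Γ) (W : Subgroup Γ) (n : ℕ) : Prop := ∀ i < n, ∀ j ≤ i, lhs t i j ∈ pcS t W i

/-- the relations of the table hold for the first `n` elements -/
def Rel (N : ℕ) (tw : ℕ → ℕ → ℕ) (t : ℕ → Γ) (n : ℕ) : Prop := ∀ i < n, ∀ j ≤ i, lhs t i j = nf 2 N t (tw i j)

theorem pcS_le {K : Subgroup Γ} {i : ℕ} (h : ∀ j < i, t j ∈ K) (hW : W ≤ K) : pcS t W i ≤ K :=
  sup_le ((Subgroup.closure_le _).2 fun _ ⟨j, hj, e⟩ => e ▸ h j hj) hW

theorem pcS_mono {i j : ℕ} (h : i ≤ j) : pcS t W i ≤ pcS t W j :=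
  pcS_le (fun _ hk => mem_pcS (hk.trans_le h)) le_sup_right

theorem nf_mem_pcS {N i E : ℕ} (h : E < 2 ^ i) : nf 2 N t E ∈ pcS t W i :=
  nf_induction (· ∈ pcS t W i) (one_mem _) (fun _ _ => mul_mem) i _ _ (fun _ => mem_pcS) _ h

theorem Rel.pc {N : ℕ} {tw : ℕ → ℕ → ℕ} (h : Rel N tw t n) (hlt : ∀ i < n, ∀ j ≤ i, tw i j < 2 ^ i) :
    PC t W n := fun i hi j hj => h i hi j hj ▸ nf_mem_pcS (hlt i hi j hj)

theorem Rel.map {Δ : Type*} [Group Δ] {N : ℕ} {tw : ℕ → ℕ → ℕ} (h : Rel N tw t n) (f : Γ →* Δ) :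
    Rel N tw (fun l => f (t l)) n := fun i hi j hj => by rw [← map_lhs, h i hi j hj, map_nf]

theorem PC.sq (h : PC t W n) {i : ℕ} (hi : i < n) : t i * t i ∈ pcS t W i := by
  simpa [lhs] using h i hi i le_rfl

theorem PC.conj (h : PC t W n) (hW : W ≤ Subgroup.center Γ) {i : ℕ} (hi : i < n) {y : Γ} (hy : y ∈ pcS t W i) :
    (t i)⁻¹ * y * t i ∈ pcS t W i := by
  have : pcS t W i ≤ (pcS t W i).comap (MulAut.conj (t i)⁻¹).toMonoidHom := by
    refine pcS_le (fun j hj => by simpa [lhs, hj.ne] using h i hi j hj.le) fun x hx => ?_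
    change (t i)⁻¹ * x * (t i)⁻¹⁻¹ ∈ pcS t W i
    rw [Subgroup.mem_center_iff.1 (hW hx) (t i)⁻¹, mul_inv_cancel_right]
    exact Subgroup.mem_sup_right hx
  simpa using this hy

theorem PC.mem_succ (h : PC t W n) (hW : W ≤ Subgroup.center Γ) {i : ℕ} (hi : i < n) {x : Γ}
    (hx : x ∈ pcS t W (i + 1)) : x ∈ pcS t W i ∨ (t i)⁻¹ * x ∈ pcS t W i := by
  let K : Subgroup Γ :=
    { carrier := {x | x ∈ pcS t W i ∨ (t i)⁻¹ * x ∈ pcS t W i}
      one_mem' := Or.inl (one_mem _)
      mul_mem' := by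
        rintro a b (ha | ha) (hb | hb)
        · exact Or.inl (mul_mem ha hb)
        · exact Or.inr (by convert mul_mem (h.conj hW hi ha) hb using 1; group)
        · exact Or.inr (by convert mul_mem ha hb using 1; group)
        · exact Or.inl (by convert mul_mem (mul_mem (h.sq hi) (h.conj hW hi ha)) hb using 1; group)
      inv_mem' := by
        rintro a (ha | ha)
        · exact Or.inl (inv_mem ha)
        · exact Or.inr (by convert mul_mem (h.conj hW hi (inv_mem ha)) (inv_mem (h.sq hi)) using 1; group) }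
  refine pcS_le (K := K) (fun j hj => ?_) (fun y hy => Or.inl (Subgroup.mem_sup_right hy)) hx
  rcases Nat.lt_succ_iff_lt_or_eq.1 hj with hj | rfl
  · exact Or.inl (mem_pcS hj)
  · exact Or.inr (by simp)

theorem PC.ker_ind (h : PC t W n) (hW : W ≤ Subgroup.center Γ) {Δ : Type*} [Group Δ] (f : Γ →* Δ)
    {V : Subgroup Γ} (hV : W ≤ V) (hk : V ≤ f.ker)
    (hf : ∀ i < n, t i ∈ V ∨ f (t i) ∉ pcS (fun l => f (t l)) ⊥ i) {x : Γ} (hx : x ∈ pcS t W n) (h1 : f x = 1) :
    x ∈ V := by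
  induction n generalizing x with
  | zero => exact pcS_le (fun j hj => absurd hj (by simp)) hV hx
  | succ n ih =>
    have ih := @ih (fun i hi => h i (by omega)) fun i hi => hf i (by omega)
    rcases h.mem_succ hW n.lt_succ_self hx with h2 | h2
    · exact ih h2 h1
    · have h3 : pcS t W n ≤ (pcS (fun l => f (t l)) ⊥ n).comap f :=
        pcS_le (fun j hj => mem_pcS (t := fun l => f (t l)) hj) fun y hy =>
          Subgroup.mem_sup_right (hk (hV hy))
      have h4 := (hf n n.lt_succ_self).resolve_right (not_not.2 (by simpa [h1] using h3 h2))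
      simpa using mul_mem h4 (ih h2 (by rw [map_mul, map_inv, h1, hk h4]; simp))

theorem PC.card_succ [Finite Γ] (h : PC t W n) (hW : W ≤ Subgroup.center Γ) {i : ℕ} (hi : i < n) :
    Nat.card (pcS t W (i + 1)) ≤ 2 * Nat.card (pcS t W i) := by
  refine (Subgroup.card_le_of_le (K := pcS t W i ⊔ Subgroup.zpowers (t i)) (pcS_le (fun j hj => ?_)
    (le_sup_of_le_left le_sup_right))).trans (Nat.le_of_dvd (Nat.mul_pos two_pos Nat.card_pos)
      (H63.card_sup_zpowers_dvd (fun y => h.conj hW hi) (pow_two (t i) ▸ h.sq hi)))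
  rcases Nat.lt_succ_iff_lt_or_eq.1 hj with hj | rfl
  · exact Subgroup.mem_sup_left (mem_pcS hj)
  · exact Subgroup.mem_sup_right (Subgroup.mem_zpowers _)

theorem PC.free [Finite Γ] (h : PC t ⊥ n) (hc : 2 ^ n ≤ Nat.card (pcS t ⊥ n)) {i : ℕ} (hi : i < n) :
    t i ∉ pcS t ⊥ i := by
  intro h1
  have h2 : ∀ m ≤ n, Nat.card (pcS t ⊥ m) * (if i < m then 2 else 1) ≤ 2 ^ m := by
    intro m hm
    induction m with
    | zero => simp [pcS]
    | succ m ih =>
      have h3 := ih (by omega)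
      have h4 := h.card_succ bot_le (show m < n by omega)
      rcases lt_trichotomy i m with h5 | rfl | h5
      · rw [if_pos h5] at h3; rw [if_pos (by omega)]; omega
      · have : pcS t ⊥ (i + 1) ≤ pcS t ⊥ i := pcS_le (fun j hj =>
          (Nat.lt_succ_iff_lt_or_eq.1 hj).elim mem_pcS fun e => e ▸ h1) bot_le
        have := Subgroup.card_le_of_le this
        rw [if_neg (by omega)] at h3; rw [if_pos (by omega)]; omega
      · rw [if_neg (by omega)] at h3 ⊢; omega
  have := h2 n le_rfl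
  have : 0 < 2 ^ n := by positivity
  rw [if_pos hi] at *
  omega

theorem card_ge_of_free [Finite Γ] {r k : ℕ} (h : ∀ i, r ≤ i → i < r + k → t i ∉ pcS t W i) :
    2 ^ k * Nat.card (pcS t W r) ≤ Nat.card (pcS t W (r + k)) := by
  induction k with
  | zero => simp
  | succ k ih =>
    have h1 : pcS t W (r + k) ≤ pcS t W (r + (k + 1)) := pcS_mono (by omega)
    have h2 := ih fun i h3 h4 => h i h3 (by omega)
    obtain ⟨c, hc⟩ := Subgroup.card_dvd_of_le h1
    have h3 : c ≠ 1 := by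
      rintro rfl
      exact h (r + k) (by omega) (by omega) (Subgroup.eq_of_le_of_card_ge h1 (by omega) ▸ mem_pcS (by omega))
    have h4 : c ≠ 0 := by rintro rfl; exact Nat.card_pos.ne' hc
    rw [hc, pow_succ]
    nlinarith [show 2 ≤ c by omega]

theorem exists_hom_sub {K : Type*} [Group K] {u : ℕ → Γ × K} (h : PC u ⊥ n)
    (hf : ∀ i < n, u i = 1 ∨ (u i).1 ∉ pcS (fun l => (u l).1) ⊥ i) :
    ∃ f : pcS (fun l => (u l).1) ⊥ n →* K, ∀ x, (x.1, f x) ∈ pcS u ⊥ n := by
  let p : pcS u ⊥ n →* pcS (fun l => (u l).1) ⊥ n := ((MonoidHom.fst Γ K).comp (Subgroup.subtype _)).codRestrict _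
    fun x => pcS_le (K := (pcS (fun l => (u l).1) ⊥ n).comap (MonoidHom.fst Γ K))
      (fun j hj => mem_pcS (t := fun l => (u l).1) hj) bot_le x.2
  have hp : Function.Bijective p := by
    refine ⟨(injective_iff_map_eq_one p).2 fun x hx => Subtype.ext (h.ker_ind bot_le (MonoidHom.fst Γ K) le_rfl
      bot_le hf x.2 (congrArg Subtype.val hx)), fun y => ?_⟩
    obtain ⟨x, hx, e⟩ := pcS_le (K := (pcS u ⊥ n).map (MonoidHom.fst Γ K)) (fun j hj => ⟨_, mem_pcS hj, rfl⟩)
      bot_le y.2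
    exact ⟨⟨x, hx⟩, Subtype.ext e⟩
  let e := MulEquiv.ofBijective p hp
  refine ⟨((MonoidHom.snd Γ K).comp (Subgroup.subtype _)).comp e.symm.toMonoidHom, fun x => ?_⟩
  have h1 : (x.1, (e.symm x).1.2) = (e.symm x).1 :=
    Prod.ext (congrArg Subtype.val (e.apply_symm_apply x)).symm rfl
  exact (h1 ▸ (e.symm x).2 : (x.1, (e.symm x).1.2) ∈ pcS u ⊥ n)

theorem exists_hom {K : Type*} [Group K] {N : ℕ} {tw : ℕ → ℕ → ℕ} (hlt : ∀ i < n, ∀ j ≤ i, tw i j < 2 ^ i)
    (h : Rel N tw t n) (hf : ∀ i < n, t i ∉ pcS t ⊥ i) (hg : pcS t ⊥ n = ⊤) {u : ℕ → K} (hu : Rel N tw u n) :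
    ∃ f : Γ →* K, ∀ j < n, f (t j) = u j := by
  have h1 : Rel N tw (fun l => (t l, u l)) n := fun i hi j hj => Prod.ext
    ((map_lhs (MonoidHom.fst Γ K) _ _ _).trans ((h i hi j hj).trans
      (map_nf (MonoidHom.fst Γ K) _ _ (fun l => (t l, u l)) _).symm))
    ((map_lhs (MonoidHom.snd Γ K) _ _ _).trans ((hu i hi j hj).trans
      (map_nf (MonoidHom.snd Γ K) _ _ (fun l => (t l, u l)) _).symm))
  obtain ⟨f, hf1⟩ := exists_hom_sub (h1.pc hlt) fun i hi => Or.inr (hf i hi)
  refine ⟨f.comp ((MonoidHom.id Γ).codRestrict _ fun x => hg ▸ Subgroup.mem_top x), fun j hj => ?_⟩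
  have := (h1.pc hlt).ker_ind bot_le (MonoidHom.fst Γ K) le_rfl bot_le (fun i hi => Or.inr (hf i hi))
    (mul_mem (inv_mem (hf1 ⟨t j, mem_pcS hj⟩)) (mem_pcS hj)) (by simp)
  exact inv_mul_eq_one.1 (congrArg Prod.snd (Subgroup.mem_bot.1 this))

end pc

/-- the data of an extension by a cyclic group of order two -/
structure ED (H : Type) [Group H] where
  α : H →* H
  w : H
  sq : ∀ x, w * α (α x) = x * w
  fix : α w = w

/-- the extension -/
@[ext] structure Ext {H : Type} [Group H] (_ : ED H) : Type where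
  b : Bool
  x : H

namespace Ext
variable {H : Type} [Group H] (D : ED H)

instance instMul : Mul (Ext D) := ⟨fun x y => ⟨xor x.1 y.1,
  (if x.1 && y.1 then D.w else 1) * (if y.1 then D.α x.2 else x.2) * y.2⟩⟩
instance instOne : One (Ext D) := ⟨⟨false, 1⟩⟩
instance instInv : Inv (Ext D) := ⟨fun x => ⟨x.1, if x.1 then (D.w * D.α x.2)⁻¹ else x.2⁻¹⟩⟩

theorem mul_def (a b : Bool) (x y : H) : (⟨a, x⟩ * ⟨b, y⟩ : Ext D) =
    ⟨xor a b, (if a && b then D.w else 1) * (if b then D.α x else x) * y⟩ := rfl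

instance instGroup : Group (Ext D) := Group.ofRightAxioms
  (by
    rintro ⟨a, x⟩ ⟨b, y⟩ ⟨c, z⟩
    have h := fun x y => (mul_assoc _ _ y).symm.trans (congrArg (· * y) (D.sq x))
    simp only [mul_def]
    cases a <;> cases b <;> cases c <;> simp [mul_assoc, D.fix, h])
  (by rintro ⟨a, x⟩; exact (mul_def D a false x 1).trans (by simp))
  (by
    rintro ⟨a, x⟩
    refine (mul_def D a a x _).trans ?_
    cases a <;> simp <;> rfl)

instance instFinite [Finite H] : Finite (Ext D) :=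
  Finite.of_injective (fun x : Ext D => (x.1, x.2)) fun _ _ h => Ext.ext (congrArg Prod.fst h) (congrArg Prod.snd h)

/-- the embedding of the base group -/
def ι : H →* Ext D := MonoidHom.mk' (fun x => ⟨false, x⟩) fun x y => ((mul_def D _ _ _ _).trans (by simp)).symm

/-- the new generator -/
def g : Ext D := ⟨true, 1⟩

theorem g_mul (x : H) : g D * ι D x = ⟨true, x⟩ := (mul_def D _ _ _ _).trans (by simp)

theorem g_sq : g D * g D = ι D D.w := (mul_def D _ _ _ _).trans (by simp; rfl)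

theorem g_conj (x : H) : (g D)⁻¹ * ι D x * g D = ι D (D.α x) := by
  rw [mul_assoc, inv_mul_eq_iff_eq_mul, g_mul]
  exact (mul_def D _ _ _ _).trans (by simp)

end Ext

/-- the consistency tests of level `g` -/
noncomputable def lev (N M : ℕ) (tw : ℕ → ℕ → ℕ) (g : ℕ) : Bool :=
  (allN g fun i => allN (Nat.succ i) fun j => Nat.beq (Nat.mod (homT N tw (fun _ _ => nat_lit 0) (tw g)
    (fun _ => nat_lit 0) i j (tw i j) (nat_lit 0)) M) (nat_lit 0)) &&
  ((allN g fun j => Nat.beq (Nat.mod (sqT N tw (fun _ _ => nat_lit 0) g j) M) (nat_lit 0)) &&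
    Nat.beq (Nat.mod (fixT N tw (fun _ _ => nat_lit 0) g) M) (nat_lit 0))

/-- exact relations as a context -/
def Rel.cx {Γ : Type*} [Group Γ] {N d : ℕ} {tw : ℕ → ℕ → ℕ} {s : ℕ → Γ} (h : Rel N tw s d) (hd : d ≤ N)
    (hlt : ∀ i < d, ∀ j ≤ i, tw i j < 2 ^ i) : Cx Γ N d tw fun _ _ => 0 where
  s := s
  ev _ := 1
  cen := by simp
  xor := by simp
  hd := hd
  lt := hlt
  rel i hi j hj := (h i hi j hj).trans (mul_one _).symm

theorem Rel.cx_im {Γ : Type*} [Group Γ] {N d : ℕ} {tw : ℕ → ℕ → ℕ} {s : ℕ → Γ} (h : Rel N tw s d) (hd : d ≤ N)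
    (hlt : ∀ i < d, ∀ j ≤ i, tw i j < 2 ^ i) (fw ft : ℕ → ℕ) :
    (h.cx hd hlt).im fw ft = fun l => nf 2 N s (fw l) := funext fun _ => mul_one _

/-- a consistent presentation defines a group of the expected order -/
theorem exists_pc {N : ℕ} {tw : ℕ → ℕ → ℕ} (hlt : ∀ i < N, ∀ j ≤ i, tw i j < 2 ^ i)
    (h : ∀ g < N, lev N (2 ^ N) tw g = true) : ∃ (H : Type) (_ : Group H) (_ : Finite H) (s : ℕ → H),
      Rel N tw s N ∧ (∀ i < N, s i ∉ pcS s ⊥ i) ∧ pcS s ⊥ N = ⊤ := by
  suffices ∀ n ≤ N, ∃ (H : Type) (_ : Group H) (_ : Finite H) (s : ℕ → H),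
      Rel N tw s n ∧ (∀ i < n, s i ∉ pcS s ⊥ i) ∧ pcS s ⊥ n = ⊤ from this N le_rfl
  intro n hn
  induction n with
  | zero => exact ⟨PUnit, inferInstance, inferInstance, 1, by simp [Rel], by simp, Subsingleton.elim _ _⟩
  | succ n ih =>
    obtain ⟨H, _, _, s, h1, h2, h3⟩ := ih (by omega)
    have hlt' : ∀ i < n, ∀ j ≤ i, tw i j < 2 ^ i := fun i hi => hlt i (by omega)
    have hn' := hlt n hn
    have h4 := h n hn
    simp only [lev, Bool.and_eq_true, allN_iff, beq_iff] at h4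
    obtain ⟨α, hα⟩ := exists_hom hlt' h1 h2 h3 (u := fun l => nf 2 N s (tw n l)) fun i hi j hj => by
      have := (h1.cx (by omega) hlt').homT_spec (fw := tw n) (fun _ => 0) 0 (show i ≤ N by omega)
        (fun l hl => hn' l (by omega)) (hlt' i hi j hj) (hn' i hi.le) (hn' j (by omega))
        (h4.1 i hi j (Nat.lt_succ_of_le hj))
      rw [Rel.cx_im] at this
      exact this.trans ((mul_one _).trans (mul_one _))
    have h5 : ∀ l ≤ n, α (nf 2 N s (tw n l)) = nf 2 N (fun l => nf 2 N s (tw n l)) (tw n l) := fun l hl => by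
      rw [map_nf]; exact nf_lt _ (hn' l hl) hα
    let D : ED H :=
      { α := α
        w := nf 2 N s (tw n n)
        sq := fun x => by
          have : pcS s ⊥ n ≤ ((MulAut.conj (nf 2 N s (tw n n))).toMonoidHom.comp (α.comp α)).eqLocus
              (MonoidHom.id H) := pcS_le (fun j hj => by
            have := (h1.cx (by omega) hlt').sqT_spec le_rfl hn' hj (h4.2.1 j hj)
            rw [Rel.cx_im] at this
            change _ * α (α (s j)) * _ = s j
            rw [hα j hj, h5 j hj.le, mul_inv_eq_iff_eq_mul]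
            exact (congrArg _ (mul_one _).symm).trans (this.trans (mul_one _))) bot_le
          exact mul_inv_eq_iff_eq_mul.1 (this (h3 ▸ Subgroup.mem_top x))
        fix := by
          have := (h1.cx (by omega) hlt').fixT_spec le_rfl hn' h4.2.2
          rw [Rel.cx_im] at this
          exact (h5 n le_rfl).trans (this.trans (mul_one _)) }
    let s' : ℕ → Ext D := fun j => if j = n then Ext.g D else Ext.ι D (s j)
    have e1 : ∀ j < n, s' j = Ext.ι D (s j) := fun j hj => if_neg hj.ne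
    have e2 : s' n = Ext.g D := if_pos rfl
    have e3 : ∀ E < 2 ^ n, nf 2 N s' E = Ext.ι D (nf 2 N s E) := fun E hE => by
      rw [map_nf]; exact nf_lt _ hE e1
    have e4 : ∀ i ≤ n, pcS s' ⊥ i ≤ (pcS s ⊥ i).map (Ext.ι D) := fun i hi =>
      pcS_le (fun j hj => ⟨_, mem_pcS hj, (e1 j (by omega)).symm⟩) bot_le
    refine ⟨Ext D, inferInstance, inferInstance, s', fun i hi j hj => ?_, fun i hi h6 => ?_, ?_⟩
    · rcases Nat.lt_succ_iff_lt_or_eq.1 hi with hi | rfl
      · rw [e3 _ ((hlt' i hi j hj).trans_le (Nat.pow_le_pow_right two_pos hi.le)), ← h1 i hi j hj, map_lhs, lhs,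
          lhs, e1 i hi, e1 j (by omega)]
      · rw [e3 _ (hn' j hj), lhs, e2]
        split_ifs with h7
        · rw [h7]; exact Ext.g_sq D
        · rw [e1 j (by omega), Ext.g_conj, ← hα j (by omega)]
    · obtain ⟨x, hx, e⟩ := e4 i (by omega) h6
      rcases Nat.lt_succ_iff_lt_or_eq.1 hi with hi | rfl
      · rw [e1 i hi] at e
        have e' : x = s i := congrArg Ext.x e
        exact h2 i hi (e' ▸ hx)
      · rw [e2] at e
        exact absurd (congrArg Ext.b e) Bool.false_ne_true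
    · have h6 : ∀ x, Ext.ι D x ∈ pcS s' ⊥ (n + 1) := fun x =>
        pcS_le (K := (pcS s' ⊥ (n + 1)).comap (Ext.ι D)) (fun j hj => by
          rw [Subgroup.mem_comap, ← e1 j hj]; exact mem_pcS (by omega)) bot_le (h3 ▸ Subgroup.mem_top x)
      rw [eq_top_iff]
      rintro ⟨_ | _, x⟩ -
      · exact h6 x
      · exact Ext.g_mul D x ▸ mul_mem (e2 ▸ mem_pcS n.lt_succ_self) (h6 x)

end Cfsg.Agent.H80M
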